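import Cfsg.Agent.Lib.InvChar.SporData.HeB.R0
import Cfsg.Agent.Lib.InvChar.SporData.HeB.Data

set_option autoImplicit false
set_option maxRecDepth 100000

namespace CfsgLib.InvChar.Coset.HeB

theorem chk_rows12 : table.chkRows cert live fin 1500 18000 = true := by decide +kernel

theorem chk_rows13 : table.chkRows cert live fin 1500 19500 = true := by decide +kernel

theorem chk_rows14 : table.chkRows cert live fin 1500 21000 = true := by decide +kernel

end CfsgLib.InvChar.Coset.HeB
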