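import Cfsg.Agent.Lib.InvChar.SporData.HeB.R2
import Cfsg.Agent.Lib.InvChar.SporData.HeB.Data

set_option autoImplicit false
set_option maxRecDepth 100000

namespace CfsgLib.InvChar.Coset.HeB

theorem chk_rows18 : table.chkRows cert live fin 1500 27000 = true := by decide +kernel

theorem chk_rows19 : table.chkRows cert live fin 1500 28500 = true := by decide +kernel

theorem chk_rows20 : table.chkRows cert live fin 1500 30000 = true := by decide +kernel

end CfsgLib.InvChar.Coset.HeB
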